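import Mathlib.Algebra.Category.Grp.Abelian
import Mathlib.Algebra.Category.Grp.Ulift
import Mathlib.Algebra.Category.Grp.FilteredColimits
import Mathlib.Algebra.Category.Grp.EpiMono
import Mathlib.CategoryTheory.Limits.Filtered
import Mathlib.CategoryTheory.Limits.Preserves.Filtered
import Mathlib.CategoryTheory.Limits.Types.Filtered

set_option linter.unusedSectionVars false
set_option linter.unusedVariables false
set_option linter.unusedSimpArgs false
set_option autoImplicit false
set_option linter.style.haveILetI false
set_option maxHeartbeats 400000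

noncomputable section

namespace Groth.Agent.Lib.Helper6.DeltaIso

open CategoryTheory Limits

universe w v u

section Filt

variable {J : Type v} [SmallCategory J] [IsFiltered J] {F G : J ⥤ AddCommGrpCat.{w}}

/-- Kernel description for filtered colimits of abelian groups in arbitrary universes. -/
lemma exists_map_eq_zero (c : Cocone F) (hc : IsColimit c) (j : J) (y : F.obj j)
    (h : c.ι.app j y = 0) : ∃ (k : J) (f : j ⟶ k), F.map f y = 0 := by
  have h1 : PreservesFilteredColimitsOfSize.{v, v} (forget AddCommGrpCat.{max w v}) :=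
    preservesFilteredColimitsOfSize_shrink.{v, max w v, v, max w v} _
  have h2 : PreservesColimit (F ⋙ AddCommGrpCat.uliftFunctor.{v, w})
      (forget AddCommGrpCat.{max w v}) :=
    (h1.preserves_filtered_colimits J).preservesColimit
  have hc₂ : IsColimit ((forget AddCommGrpCat.{max w v}).mapCocone
      (AddCommGrpCat.uliftFunctor.{v, w}.mapCocone c)) :=
    isColimitOfPreserves _ (isColimitOfPreserves _ hc)
  have := (Types.FilteredColimit.isColimit_eq_iff' hc₂ (i := j)
    (ULift.up y : ULift.{v} (F.obj j)) (ULift.up (0 : F.obj j))).1 (by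
      change ULift.up (c.ι.app j y) = ULift.up (c.ι.app j 0)
      rw [h, map_zero])
  obtain ⟨k, f, hf⟩ := this
  refine ⟨k, f, ?_⟩
  have : ULift.up.{v} (F.map f y) = ULift.up (F.map f 0) := hf
  rw [map_zero] at this
  exact ULift.up_injective this

/-- Joint surjectivity for filtered colimits of abelian groups in arbitrary universes. -/
lemma exists_rep (c : Cocone F) (hc : IsColimit c) (x : c.pt) :
    ∃ (j : J) (y : F.obj j), c.ι.app j y = x := by
  have h1 : PreservesFilteredColimitsOfSize.{v, v} (forget AddCommGrpCat.{max w v}) :=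
    preservesFilteredColimitsOfSize_shrink.{v, max w v, v, max w v} _
  have h2 : PreservesColimit (F ⋙ AddCommGrpCat.uliftFunctor.{v, w})
      (forget AddCommGrpCat.{max w v}) :=
    (h1.preserves_filtered_colimits J).preservesColimit
  have hc₂ : IsColimit ((forget AddCommGrpCat.{max w v}).mapCocone
      (AddCommGrpCat.uliftFunctor.{v, w}.mapCocone c)) :=
    isColimitOfPreserves _ (isColimitOfPreserves _ hc)
  obtain ⟨j, y, hy⟩ := Types.jointly_surjective_of_isColimit hc₂ (ULift.up x)
  refine ⟨j, ULift.down y, ?_⟩
  have : ULift.up.{v} (c.ι.app j (ULift.down y)) = ULift.up x := hy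
  exact ULift.up_injective this

variable (α : F ⟶ G) (c : Cocone F) (hc : IsColimit c) (c' : Cocone G) (hc' : IsColimit c')
  (m : c.pt ⟶ c'.pt) (hm : ∀ j, c.ι.app j ≫ m = α.app j ≫ c'.ι.app j)

include hc hc' hm in
lemma injective_of_colimit (hα : ∀ j, Function.Injective (α.app j)) :
    Function.Injective m := by
  rw [injective_iff_map_eq_zero]
  intro x hx
  obtain ⟨j, y, rfl⟩ := exists_rep c hc x
  have h1 : c'.ι.app j (α.app j y) = 0 := by
    have := congrArg (fun t => t y) (congrArg (fun t => (t.hom : _ → _)) (hm j))
    simp only [AddCommGrpCat.hom_comp, AddMonoidHom.coe_comp, Function.comp_apply] at this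
    rw [← this]; exact hx
  obtain ⟨k, f, hf⟩ := exists_map_eq_zero c' hc' j _ h1
  have h2 : α.app k (F.map f y) = 0 := by
    have := congrArg (fun t => (t.hom : _ → _) y) (α.naturality f)
    simp only [AddCommGrpCat.hom_comp, AddMonoidHom.coe_comp, Function.comp_apply] at this
    rw [this]; exact hf
  have h3 : F.map f y = 0 := hα k (by rw [h2, map_zero])
  have h4 := congrArg (fun t => (t.hom : _ → _) y) (c.w f)
  simp only [AddCommGrpCat.hom_comp, AddMonoidHom.coe_comp, Function.comp_apply] at h4
  rw [← h4, h3, map_zero]

include hc' hm in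
lemma epi_of_colimit (hα : ∀ j, Epi (α.app j)) : Epi m := by
  constructor
  intro Z g h hgh
  apply hc'.hom_ext
  intro j
  have := hα j
  rw [← cancel_epi (α.app j), ← Category.assoc, ← Category.assoc, ← hm j, Category.assoc,
    Category.assoc, hgh]

end Filt

end Groth.Agent.Lib.Helper6.DeltaIso
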