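import Mathlib.Algebra.Category.Grp.Abelian
import Mathlib.Algebra.Category.Grp.EpiMono
import Mathlib.Algebra.Homology.ShortComplex.Ab

set_option linter.unusedSectionVars false
set_option linter.unusedVariables false
set_option linter.unusedSimpArgs false
set_option autoImplicit false
set_option linter.style.haveILetI false
set_option maxHeartbeats 400000

noncomputable section

namespace Groth.Agent.Lib.Helper6.DeltaIso

open CategoryTheory Limits

universe w

variable {A1 A2 A3 A4 B1 B2 B3 B4 : AddCommGrpCat.{w}}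
  (f1 : A1 ⟶ A2) (f2 : A2 ⟶ A3) (f3 : A3 ⟶ A4)
  (g1 : B1 ⟶ B2) (g2 : B2 ⟶ B3) (g3 : B3 ⟶ B4)
  (a1 : A1 ⟶ B1) (a2 : A2 ⟶ B2) (a3 : A3 ⟶ B3) (a4 : A4 ⟶ B4)

lemma four_mono
    (c1 : f1 ≫ a2 = a1 ≫ g1) (c2 : f2 ≫ a3 = a2 ≫ g2) (c3 : f3 ≫ a4 = a3 ≫ g3)
    (z12 : f1 ≫ f2 = 0)
    (ex3 : ∀ x : A3, f3 x = 0 → ∃ y, f2 y = x)
    (ex2' : ∀ x : B2, g2 x = 0 → ∃ y, g1 y = x)
    (h1 : Function.Surjective a1) (h2 : Function.Injective a2) (h4 : Function.Injective a4) :
    Function.Injective a3 := by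
  rw [injective_iff_map_eq_zero]
  intro c hc
  have hd : f3 c = 0 := by
    apply h4
    have := ConcreteCategory.congr_hom c3 c
    rw [ConcreteCategory.comp_apply, ConcreteCategory.comp_apply] at this
    rw [this, hc, map_zero, map_zero]
  obtain ⟨b, rfl⟩ := ex3 c hd
  have hb : g2 (a2 b) = 0 := by
    have := ConcreteCategory.congr_hom c2 b
    rw [ConcreteCategory.comp_apply, ConcreteCategory.comp_apply] at this
    rw [← this]; exact hc
  obtain ⟨a', ha'⟩ := ex2' _ hb
  obtain ⟨a, rfl⟩ := h1 a'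
  have hba : b = f1 a := by
    apply h2
    have := ConcreteCategory.congr_hom c1 a
    rw [ConcreteCategory.comp_apply, ConcreteCategory.comp_apply] at this
    rw [this, ha']
  rw [hba]
  have := ConcreteCategory.congr_hom z12 a
  rw [ConcreteCategory.comp_apply] at this
  rw [this]; rfl

lemma four_epi
    (c1 : f1 ≫ a2 = a1 ≫ g1) (c2 : f2 ≫ a3 = a2 ≫ g2) (c3 : f3 ≫ a4 = a3 ≫ g3)
    (z23' : g2 ≫ g3 = 0)
    (ex3 : ∀ x : A3, f3 x = 0 → ∃ y, f2 y = x)
    (ex2' : ∀ x : B2, g2 x = 0 → ∃ y, g1 y = x)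
    (h1 : Function.Surjective a1) (h3 : Function.Surjective a3) (h4 : Function.Injective a4) :
    Function.Surjective a2 := by
  intro b'
  obtain ⟨c, hc⟩ := h3 (g2 b')
  have hd : f3 c = 0 := by
    apply h4
    have := ConcreteCategory.congr_hom c3 c
    rw [ConcreteCategory.comp_apply, ConcreteCategory.comp_apply] at this
    rw [this, hc, map_zero]
    have := ConcreteCategory.congr_hom z23' b'
    rw [ConcreteCategory.comp_apply] at this
    rw [this]; rfl
  obtain ⟨b, rfl⟩ := ex3 c hd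
  have hb : g2 (a2 b - b') = 0 := by
    have := ConcreteCategory.congr_hom c2 b
    rw [ConcreteCategory.comp_apply, ConcreteCategory.comp_apply] at this
    rw [map_sub, ← this, hc, sub_self]
  obtain ⟨a', ha'⟩ := ex2' _ hb
  obtain ⟨a, rfl⟩ := h1 a'
  refine ⟨b - f1 a, ?_⟩
  have := ConcreteCategory.congr_hom c1 a
  rw [ConcreteCategory.comp_apply, ConcreteCategory.comp_apply] at this
  rw [map_sub, this, ha']
  abel

/-- Degree zero variant: rows `0 → A2 → A3 → A4`. -/
lemma three_epi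
    (c2 : f2 ≫ a3 = a2 ≫ g2) (c3 : f3 ≫ a4 = a3 ≫ g3)
    (z23' : g2 ≫ g3 = 0)
    (ex3 : ∀ x : A3, f3 x = 0 → ∃ y, f2 y = x)
    (hg2 : Function.Injective g2)
    (h3 : Function.Surjective a3) (h4 : Function.Injective a4) :
    Function.Surjective a2 := by
  intro b'
  obtain ⟨c, hc⟩ := h3 (g2 b')
  have hd : f3 c = 0 := by
    apply h4
    have := ConcreteCategory.congr_hom c3 c
    rw [ConcreteCategory.comp_apply, ConcreteCategory.comp_apply] at this
    rw [this, hc, map_zero]
    have := ConcreteCategory.congr_hom z23' b'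
    rw [ConcreteCategory.comp_apply] at this
    rw [this]; rfl
  obtain ⟨b, rfl⟩ := ex3 c hd
  refine ⟨b, ?_⟩
  apply hg2
  have := ConcreteCategory.congr_hom c2 b
  rw [ConcreteCategory.comp_apply, ConcreteCategory.comp_apply] at this
  rw [← this, hc]

end Groth.Agent.Lib.Helper6.DeltaIso
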