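import Groth.Prelude.Def_DeltaF
import Groth.Agent.Lib.Helper6.DeltaIso.Filt
import Groth.Agent.Lib.Helper6.DeltaIso.Four
import Mathlib.CategoryTheory.ObjectProperty.Basic

set_option linter.unusedSectionVars false
set_option linter.unusedVariables false
set_option linter.unusedSimpArgs false
set_option autoImplicit false
set_option linter.style.haveILetI false
set_option maxHeartbeats 400000

noncomputable section

namespace Groth.Agent.Lib.Helper6.DeltaIso

open CategoryTheory Limits DeltaF

universe w v u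

variable {C : Type u} [Category.{v} C] [Abelian C]
  (T T' : DeltaF.CohDeltaFunctor C AddCommGrpCat.{w} ℕ) (φ : T ⟶ T') (D E : ObjectProperty C)

/-- Hypothesis (a): every object is a filtered colimit of objects of `D`. -/
def HD : Prop := ∀ A : C, ∃ (J : Type v) (_ : SmallCategory J) (_ : IsFiltered J) (K : J ⥤ C)
  (c : Cocone K) (_ : IsColimit c), (∀ j, D (K.obj j)) ∧ Nonempty (c.pt ≅ A)

/-- Hypothesis (b): every object of `D` embeds into an object of `E`. -/
def HE : Prop := ∀ A : C, D A → ∃ (M : C) (i : A ⟶ M), Mono i ∧ E M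

variable {T T' D E}

lemma transport_eq (q : ℕ) {A B : C} (e : B ≅ A) :
    (φ.app q).app A = (T.F q).map e.inv ≫ (φ.app q).app B ≫ (T'.F q).map e.hom := by
  rw [← Category.assoc, (φ.app q).naturality e.inv, Category.assoc, ← Functor.map_comp,
    e.inv_hom_id, CategoryTheory.Functor.map_id, Category.comp_id]

lemma mono_all (q : ℕ) [PreservesFilteredColimitsOfSize.{v, v} (T.F q)]
    [PreservesFilteredColimitsOfSize.{v, v} (T'.F q)] (hD : HD D)
    (h : ∀ A, D A → Mono ((φ.app q).app A)) : ∀ A, Mono ((φ.app q).app A) := by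
  intro A
  obtain ⟨J, i1, i2, K, c, hc, hK, ⟨e⟩⟩ := hD A
  haveI : PreservesColimitsOfShape J (T.F q) :=
    PreservesFilteredColimitsOfSize.preserves_filtered_colimits J
  haveI : PreservesColimitsOfShape J (T'.F q) :=
    PreservesFilteredColimitsOfSize.preserves_filtered_colimits J
  have hc1 : IsColimit ((T.F q).mapCocone c) := isColimitOfPreserves _ hc
  have hc2 : IsColimit ((T'.F q).mapCocone c) := isColimitOfPreserves _ hc
  have inj := injective_of_colimit (Functor.whiskerLeft K (φ.app q)) _ hc1 _ hc2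
    ((φ.app q).app c.pt) (fun j => (φ.app q).naturality (c.ι.app j))
    (fun j => (AddCommGrpCat.mono_iff_injective _).1 (h _ (hK j)))
  haveI : Mono ((φ.app q).app c.pt) := (AddCommGrpCat.mono_iff_injective _).2 inj
  rw [transport_eq φ q e]
  infer_instance

lemma epi_all (q : ℕ) [PreservesFilteredColimitsOfSize.{v, v} (T.F q)]
    [PreservesFilteredColimitsOfSize.{v, v} (T'.F q)] (hD : HD D)
    (h : ∀ A, D A → Epi ((φ.app q).app A)) : ∀ A, Epi ((φ.app q).app A) := by
  intro A
  obtain ⟨J, i1, i2, K, c, hc, hK, ⟨e⟩⟩ := hD A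
  haveI : PreservesColimitsOfShape J (T.F q) :=
    PreservesFilteredColimitsOfSize.preserves_filtered_colimits J
  haveI : PreservesColimitsOfShape J (T'.F q) :=
    PreservesFilteredColimitsOfSize.preserves_filtered_colimits J
  have hc1 : IsColimit ((T.F q).mapCocone c) := isColimitOfPreserves _ hc
  have hc2 : IsColimit ((T'.F q).mapCocone c) := isColimitOfPreserves _ hc
  haveI : Epi ((φ.app q).app c.pt) :=
    epi_of_colimit (Functor.whiskerLeft K (φ.app q)) ((T.F q).mapCocone c) _ hc2
      ((φ.app q).app c.pt) (fun j => (φ.app q).naturality (c.ι.app j))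
      (fun j => h _ (hK j))
  rw [transport_eq φ q e]
  infer_instance

/-- The short exact sequence attached to a monomorphism. -/
def sc {A M : C} (i : A ⟶ M) : ShortComplex C :=
  ShortComplex.mk i (cokernel.π i) (cokernel.condition i)

lemma sc_shortExact {A M : C} (i : A ⟶ M) [Mono i] : (sc i).ShortExact where
  exact := ShortComplex.exact_of_g_is_cokernel _ (cokernelIsCokernel i)
  mono_f := by dsimp [sc]; infer_instance
  epi_g := by dsimp [sc]; infer_instance

lemma step_mono_zero (hT0 : T.ZeroMono) (hE : HE D E)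
    (h : ∀ (q : ℕ) (M : C), E M → IsIso ((φ.app q).app M)) :
    ∀ A, D A → Mono ((φ.app 0).app A) := by
  intro A hA
  obtain ⟨M, i, hi, hM⟩ := hE A hA
  haveI := h 0 M hM
  haveI : Mono ((T.F 0).map i) := hT0 (sc i) (sc_shortExact i)
  have : (φ.app 0).app A ≫ (T'.F 0).map i = (T.F 0).map i ≫ (φ.app 0).app M :=
    ((φ.app 0).naturality i).symm
  haveI : Mono ((φ.app 0).app A ≫ (T'.F 0).map i) := by rw [this]; infer_instance
  exact mono_of_mono _ ((T'.F 0).map i)

lemma step_epi (hT'0 : T'.ZeroMono) (hE : HE D E)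
    (h : ∀ (q : ℕ) (M : C), E M → IsIso ((φ.app q).app M)) (q : ℕ)
    (hinj : ∀ A, Mono ((φ.app q).app A))
    (hprev : ∀ n, n + 1 = q → ∀ A, Epi ((φ.app n).app A)) :
    ∀ A, D A → Epi ((φ.app q).app A) := by
  intro A hA
  obtain ⟨M, i, hi, hM⟩ := hE A hA
  have hS := sc_shortExact i
  rw [AddCommGrpCat.epi_iff_surjective]
  cases q with
  | zero =>
    haveI : IsIso ((φ.app 0).app (sc i).X₂) := h 0 M hM
    refine three_epi ((T.F 0).map (sc i).f) ((T.F 0).map (sc i).g)
      ((T'.F 0).map (sc i).f) ((T'.F 0).map (sc i).g)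
      ((φ.app 0).app (sc i).X₁) ((φ.app 0).app (sc i).X₂) ((φ.app 0).app (sc i).X₃)
      ((φ.app 0).naturality _) ((φ.app 0).naturality _)
      (by rw [← Functor.map_comp, (sc i).zero, Functor.map_zero])
      ((ShortComplex.ab_exact_iff _).1 (T.exact₂ (sc i) hS 0))
      ((AddCommGrpCat.mono_iff_injective _).1 (hT'0 (sc i) hS))
      ((AddCommGrpCat.epi_iff_surjective _).1 inferInstance)
      ((AddCommGrpCat.mono_iff_injective _).1 (hinj _))
  | succ n =>
    haveI : IsIso ((φ.app (n + 1)).app (sc i).X₂) := h (n + 1) M hM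
    refine four_epi (T.δ (sc i) hS n (n + 1) rfl)
      ((T.F (n + 1)).map (sc i).f) ((T.F (n + 1)).map (sc i).g)
      (T'.δ (sc i) hS n (n + 1) rfl)
      ((T'.F (n + 1)).map (sc i).f) ((T'.F (n + 1)).map (sc i).g)
      ((φ.app n).app (sc i).X₃)
      ((φ.app (n + 1)).app (sc i).X₁) ((φ.app (n + 1)).app (sc i).X₂)
      ((φ.app (n + 1)).app (sc i).X₃)
      (φ.comm (sc i) hS n (n + 1) rfl)
      ((φ.app (n + 1)).naturality _) ((φ.app (n + 1)).naturality _)
      (by rw [← Functor.map_comp, (sc i).zero, Functor.map_zero])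
      ((ShortComplex.ab_exact_iff _).1 (T.exact₂ (sc i) hS (n + 1)))
      ((ShortComplex.ab_exact_iff _).1 (T'.exact₁ (sc i) hS n (n + 1) rfl))
      ((AddCommGrpCat.epi_iff_surjective _).1 (hprev n rfl _))
      ((AddCommGrpCat.epi_iff_surjective _).1 inferInstance)
      ((AddCommGrpCat.mono_iff_injective _).1 (hinj _))

lemma step_mono_succ (hE : HE D E)
    (h : ∀ (q : ℕ) (M : C), E M → IsIso ((φ.app q).app M)) (q : ℕ)
    (hq : ∀ A, IsIso ((φ.app q).app A)) :
    ∀ A, D A → Mono ((φ.app (q + 1)).app A) := by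
  intro A hA
  obtain ⟨M, i, hi, hM⟩ := hE A hA
  have hS := sc_shortExact i
  rw [AddCommGrpCat.mono_iff_injective]
  haveI : IsIso ((φ.app (q + 1)).app (sc i).X₂) := h (q + 1) M hM
  haveI := hq
  refine four_mono ((T.F q).map (sc i).g) (T.δ (sc i) hS q (q + 1) rfl)
      ((T.F (q + 1)).map (sc i).f)
      ((T'.F q).map (sc i).g) (T'.δ (sc i) hS q (q + 1) rfl)
      ((T'.F (q + 1)).map (sc i).f)
      ((φ.app q).app (sc i).X₂) ((φ.app q).app (sc i).X₃)
      ((φ.app (q + 1)).app (sc i).X₁) ((φ.app (q + 1)).app (sc i).X₂)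
      ((φ.app q).naturality _)
      (φ.comm (sc i) hS q (q + 1) rfl)
      ((φ.app (q + 1)).naturality _)
      (T.comp_δ (sc i) hS q (q + 1) rfl)
      ((ShortComplex.ab_exact_iff _).1 (T.exact₁ (sc i) hS q (q + 1) rfl))
      ((ShortComplex.ab_exact_iff _).1 (T'.exact₃ (sc i) hS q (q + 1) rfl))
      ((AddCommGrpCat.epi_iff_surjective _).1 inferInstance)
      ((AddCommGrpCat.mono_iff_injective _).1 inferInstance)
      ((AddCommGrpCat.mono_iff_injective _).1 inferInstance)

theorem main (hT0 : T.ZeroMono) (hT'0 : T'.ZeroMono)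
    [∀ n, PreservesFilteredColimitsOfSize.{v, v} (T.F n)]
    [∀ n, PreservesFilteredColimitsOfSize.{v, v} (T'.F n)]
    (hD : HD D) (hE : HE D E)
    (h : ∀ (q : ℕ) (M : C), E M → IsIso ((φ.app q).app M)) :
    ∀ (q : ℕ) (A : C), IsIso ((φ.app q).app A) := by
  have key : ∀ q : ℕ, (∀ A, Mono ((φ.app q).app A)) ∧
      (∀ n, n + 1 = q → ∀ A, IsIso ((φ.app n).app A)) := by
    intro q
    induction q with
    | zero =>
      refine ⟨mono_all φ 0 hD (step_mono_zero φ hT0 hE h), ?_⟩
      intro n hn; omega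
    | succ q ih =>
      obtain ⟨ih1, ih2⟩ := ih
      have hepi : ∀ A, Epi ((φ.app q).app A) :=
        epi_all φ q hD (step_epi φ hT'0 hE h q ih1
          (fun n hn A => by haveI := ih2 n hn A; infer_instance))
      have hiso : ∀ A, IsIso ((φ.app q).app A) := fun A => by
        haveI := ih1 A
        haveI := hepi A
        exact isIso_of_mono_of_epi _
      refine ⟨mono_all φ (q + 1) hD (step_mono_succ φ hE h q hiso), ?_⟩
      intro n hn A
      have : n = q := by omega
      subst this
      exact hiso A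
  intro q A
  exact (key (q + 1)).2 q rfl A

end Groth.Agent.Lib.Helper6.DeltaIso
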